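import Mathlib
import Cfsg.Agent.S0212

/-!
# S4719 module [BFA] (hedge by helper2): Brauer–Fowler counting for an automorphism of order ≤ 2

`bf_aut` : `S` simple with trivial centre, `τ` an automorphism with `τ ∘ τ = id`
⟹ `|S| ≤ (2 |Fix τ|²)!`.
-/

set_option autoImplicit false

namespace Cfsg.Agent.Lib.Helper2.S4719

universe u

theorem bf_aut {S : Type u} [Group S] [Finite S] [IsSimpleGroup S] (hZ : Subgroup.center S = ⊥)
    (τ : S ≃* S) (hτ : ∀ x, τ (τ x) = x) :
    Nat.card S ≤ Nat.factorial (2 * (Nat.card {x : S // τ x = x}) ^ 2) := by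
  classical
  haveI : Fintype S := Fintype.ofFinite S
  haveI : Nonempty {x : S // τ x = x} := ⟨⟨1, map_one τ⟩⟩
  set F := Nat.card {x : S // τ x = x} with hF
  set n := Nat.card S with hn
  have hFpos : 0 < F := Nat.card_pos
  have hnpos : 0 < n := Nat.card_pos
  by_cases hsmall : n ≤ 2 * F ^ 2
  · exact hsmall.trans (Nat.self_le_factorial _)
  push_neg at hsmall
  by_contra hbig
  push_neg at hbig
  -- every proper subgroup has index ≥ 2F²+1
  have hidx : ∀ H : Subgroup S, H ≠ ⊤ → 2 * F ^ 2 + 1 ≤ H.index := by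
    intro H hH
    by_contra hlt
    push_neg at hlt
    have h1 := Cfsg.Agent.S0212.card_le_factorial_index H hH
    have h2 : H.index ≤ 2 * F ^ 2 := by omega
    exact absurd (h1.trans (Nat.factorial_le h2)) (not_le.mpr hbig)
  set f : S → S := fun x => x * (τ x)⁻¹ with hf
  set U : Finset S := Finset.univ.image f with hU
  have hτU : ∀ u ∈ U, τ u = u⁻¹ := by
    intro u hu
    obtain ⟨x, -, rfl⟩ := Finset.mem_image.mp hu
    simp [hf, hτ, mul_inv_rev]
  have hcardS : Fintype.card S = n := (Nat.card_eq_fintype_card).symm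
  -- (a) n ≤ F * |U|
  have ha : n ≤ F * U.card := by
    have key := Finset.card_le_mul_card_image (f := f) (Finset.univ : Finset S) F ?_
    · rwa [Finset.card_univ, hcardS] at key
    intro a ha
    obtain ⟨x₀, -, rfl⟩ := Finset.mem_image.mp ha
    rw [hF, Nat.card_eq_fintype_card, Fintype.card_subtype]
    apply Finset.card_le_card_of_injOn (fun x => x₀⁻¹ * x)
    · intro x hx
      simp only [Finset.coe_filter, Finset.mem_univ, true_and, Set.mem_setOf_eq] at hx ⊢
      have hx' : x * (τ x)⁻¹ = x₀ * (τ x₀)⁻¹ := hx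
      rw [map_mul, map_inv]
      have h3 : x = x₀ * (τ x₀)⁻¹ * τ x := by rw [← hx']; group
      calc (τ x₀)⁻¹ * τ x = x₀⁻¹ * (x₀ * (τ x₀)⁻¹ * τ x) := by group
        _ = x₀⁻¹ * x := congrArg (x₀⁻¹ * ·) h3.symm
    · intro x _ y _ h
      exact mul_left_cancel h
  have hu : U.card ≤ n := by
    rw [← hcardS]; exact Finset.card_le_univ _
  -- (c) key identity
  have key : ∀ (y u u' : S), u ∈ U → u' ∈ U → u * u'⁻¹ = y → u⁻¹ * y * u = (τ y)⁻¹ := by
    intro y u u' hu hu' hy
    subst hy
    rw [map_mul, map_inv, hτU u hu, hτU u' hu']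
    group
  set P : S → Finset (S × S) := fun y => (U ×ˢ U).filter (fun p : S × S => p.1 * p.2⁻¹ = y) with hPdef
  have hP : ∀ y : S, (P y).card ≤ Nat.card (Subgroup.centralizer ({y} : Set S)) := by
    intro y
    rcases Finset.eq_empty_or_nonempty (P y) with he | ⟨p₀, hp₀⟩
    · rw [he]; simp
    rw [Nat.card_eq_fintype_card, Fintype.card_subtype]
    have hp₀' : (p₀.1 ∈ U ∧ p₀.2 ∈ U) ∧ p₀.1 * p₀.2⁻¹ = y := by
      simpa [hPdef, Finset.mem_filter, Finset.mem_product] using hp₀
    apply Finset.card_le_card_of_injOn (fun p => p.1 * p₀.1⁻¹)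
    · intro p hp
      have hp' : (p.1 ∈ U ∧ p.2 ∈ U) ∧ p.1 * p.2⁻¹ = y := by
        simpa [hPdef, Finset.mem_filter, Finset.mem_product] using hp
      simp only [Finset.coe_filter, Finset.mem_univ, true_and, Set.mem_setOf_eq]
      rw [Subgroup.mem_centralizer_iff]
      intro h hh
      rw [Set.mem_singleton_iff] at hh
      subst hh
      have h1 : p.1⁻¹ * h * p.1 = p₀.1⁻¹ * h * p₀.1 :=
        (key h p.1 p.2 hp'.1.1 hp'.1.2 hp'.2).trans (key h p₀.1 p₀.2 hp₀'.1.1 hp₀'.1.2 hp₀'.2).symm
      calc h * (p.1 * p₀.1⁻¹) = p.1 * (p.1⁻¹ * h * p.1) * p₀.1⁻¹ := by group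
        _ = p.1 * (p₀.1⁻¹ * h * p₀.1) * p₀.1⁻¹ := by rw [h1]
        _ = p.1 * p₀.1⁻¹ * h := by group
    · intro p hp q hq hpq
      have hp' : (p.1 ∈ U ∧ p.2 ∈ U) ∧ p.1 * p.2⁻¹ = y := by
        simpa [hPdef, Finset.mem_filter, Finset.mem_product] using hp
      have hq' : (q.1 ∈ U ∧ q.2 ∈ U) ∧ q.1 * q.2⁻¹ = y := by
        simpa [hPdef, Finset.mem_filter, Finset.mem_product] using hq
      have h1 : p.1 = q.1 := mul_right_cancel hpq
      have h2 : p.2 = q.2 := by
        have h3 : p.1 * p.2⁻¹ = p.1 * q.2⁻¹ := by rw [hp'.2, h1, hq'.2]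
        exact inv_injective (mul_left_cancel h3)
      exact Prod.ext h1 h2
  set m := 2 * F ^ 2 + 1 with hm
  -- (d)
  have hcent : ∀ y : S, y ≠ 1 → m * (P y).card ≤ n := by
    intro y hy
    have hne : Subgroup.centralizer ({y} : Set S) ≠ ⊤ := by
      intro htop
      apply hy
      have : y ∈ Subgroup.center S := by
        rw [Subgroup.mem_center_iff]
        intro g
        have hg : g ∈ Subgroup.centralizer ({y} : Set S) := by rw [htop]; trivial
        rw [Subgroup.mem_centralizer_iff] at hg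
        exact (hg y rfl).symm
      rw [hZ] at this
      exact Subgroup.mem_bot.mp this
    have h1 := hidx _ hne
    have h2 := Subgroup.card_mul_index (Subgroup.centralizer ({y} : Set S))
    calc m * (P y).card ≤ (Subgroup.centralizer ({y} : Set S)).index *
          Nat.card (Subgroup.centralizer ({y} : Set S)) := Nat.mul_le_mul h1 (hP y)
      _ = n := by rw [mul_comm]; exact h2
  have hsum : U.card * U.card = ∑ y : S, (P y).card := by
    rw [← Finset.card_product]
    exact Finset.card_eq_sum_card_fiberwise (fun _ _ => Finset.mem_univ _)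
  have hP1 : (P 1).card ≤ U.card := by
    apply Finset.card_le_card_of_injOn (fun p => p.1)
    · intro p hp
      have hp' : (p.1 ∈ U ∧ p.2 ∈ U) ∧ p.1 * p.2⁻¹ = 1 := by
        simpa [hPdef, Finset.mem_filter, Finset.mem_product] using hp
      exact hp'.1.1
    · intro p hp q hq hpq
      have hp' : (p.1 ∈ U ∧ p.2 ∈ U) ∧ p.1 * p.2⁻¹ = 1 := by
        simpa [hPdef, Finset.mem_filter, Finset.mem_product] using hp
      have hq' : (q.1 ∈ U ∧ q.2 ∈ U) ∧ q.1 * q.2⁻¹ = 1 := by
        simpa [hPdef, Finset.mem_filter, Finset.mem_product] using hq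
      have h1 : p.1 = q.1 := hpq
      have h2 : p.2 = p.1 := (mul_inv_eq_one.mp hp'.2).symm
      have h3 : q.2 = q.1 := (mul_inv_eq_one.mp hq'.2).symm
      exact Prod.ext h1 (by rw [h2, h3, h1])
  have hmain : m * (U.card * U.card) ≤ m * U.card + n * n := by
    rw [hsum, Finset.mul_sum, ← Finset.add_sum_erase _ _ (Finset.mem_univ (1 : S))]
    apply add_le_add
    · exact Nat.mul_le_mul_left _ hP1
    · have h1 := Finset.sum_le_card_nsmul (Finset.univ.erase (1 : S))
        (fun y => m * (P y).card) n (fun y hy => hcent y (Finset.ne_of_mem_erase hy))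
      refine h1.trans ?_
      rw [smul_eq_mul]
      apply Nat.mul_le_mul_right
      rw [← hcardS]
      exact Finset.card_le_univ _
  -- arithmetic
  set A := F ^ 2 with hA
  set v := U.card with hv
  have h4 : m * (n * n) ≤ n * (A * (m + n)) := by
    calc m * (n * n) ≤ m * ((F * v) * (F * v)) := Nat.mul_le_mul_left _ (Nat.mul_le_mul ha ha)
      _ = A * (m * (v * v)) := by rw [hA]; ring
      _ ≤ A * (m * v + n * n) := Nat.mul_le_mul_left _ hmain
      _ ≤ A * (m * n + n * n) := by
        apply Nat.mul_le_mul_left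
        exact Nat.add_le_add_right (Nat.mul_le_mul_left _ hu) _
      _ = n * (A * (m + n)) := by ring
  have h5 : m * n ≤ A * (m + n) := by
    have : n * (m * n) ≤ n * (A * (m + n)) := by
      calc n * (m * n) = m * (n * n) := by ring
        _ ≤ _ := h4
    exact Nat.le_of_mul_le_mul_left this hnpos
  have h6 : A * (2 * A + 1) ≤ A * n := Nat.mul_le_mul_left _ (by omega)
  rw [hm] at h5
  nlinarith [h5, h6, hnpos]

end Cfsg.Agent.Lib.Helper2.S4719
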